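import Groth.Agent.UFDLib.StablyFree
import Groth.Agent.SerreReg.Descent
import Groth.Agent.RegLoc.Order

/-!
# Auslander–Buchsbaum: regular local rings are factorial
-/

set_option autoImplicit false

universe u

open IsLocalRing

namespace Groth.Agent.UFDLib

/-- An ideal of a domain which is locally principal at all maximal ideals is projective. -/
theorem projective_of_locally_principal {T : Type u} [CommRing T] [IsDomain T] [IsNoetherianRing T] (J : Ideal T)
    (h : ∀ (Q : Ideal T), Q.IsMaximal → ∃ g ∈ J, g ≠ 0 ∧ ∀ j ∈ J, ∃ s ∉ Q, g ∣ s * j) :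
    Module.Projective T J := by
  classical
  obtain ⟨G, hG⟩ := IsNoetherian.noetherian J
  let 𝔗 : Ideal T := ⨆ φ : J →ₗ[T] T, LinearMap.range φ
  have htop : 𝔗 = ⊤ := by
    by_contra hne
    obtain ⟨Q, hQ, hle⟩ := Ideal.exists_le_maximal _ hne
    obtain ⟨g, hgJ, hg0, hg⟩ := h Q hQ
    choose s hsQ hs using hg
    have hGJ : ∀ x : G, (x : T) ∈ J := fun x => hG ▸ Submodule.subset_span x.2
    let σ := ∏ x : G, s x (hGJ x)
    have hσ : σ ∉ Q := fun hmem => by
      obtain ⟨x, -, hx⟩ := (Ideal.IsPrime.prod_mem_iff (p := Q) (hp := hQ.isPrime)).1 hmem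
      exact hsQ _ _ hx
    have hdvd : ∀ j ∈ J, g ∣ σ * j := by
      intro j hj
      rw [← hG] at hj
      induction hj using Submodule.span_induction with
      | mem x hx =>
        obtain ⟨c, hc⟩ := Finset.dvd_prod_of_mem (fun x : G => s x (hGJ x)) (Finset.mem_univ (⟨x, hx⟩ : G))
        rw [show σ = s x (hGJ ⟨x, hx⟩) * c from hc]
        exact (hs x (hGJ ⟨x, hx⟩)).trans ⟨c, by ring⟩
      | zero => simp
      | add x y _ _ hx hy => rw [mul_add]; exact dvd_add hx hy
      | smul r x _ hx => rw [smul_eq_mul, mul_left_comm]; exact dvd_mul_of_dvd_right hx r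
    choose q hq using hdvd
    let φ : J →ₗ[T] T :=
      { toFun := fun j => q j j.2
        map_add' := fun x y => mul_left_cancel₀ hg0 (by
          rw [mul_add, ← hq, ← hq, ← hq, Submodule.coe_add, mul_add])
        map_smul' := fun r x => mul_left_cancel₀ hg0 (by
          rw [RingHom.id_apply, smul_eq_mul, mul_left_comm g r, ← hq, ← hq, Submodule.coe_smul, smul_eq_mul,
            mul_left_comm]) }
    have : σ = φ ⟨g, hgJ⟩ := mul_left_cancel₀ hg0 (by
      show g * σ = g * q g hgJ
      rw [← hq, mul_comm])
    exact hσ (hle (this ▸ (le_iSup (fun φ : J →ₗ[T] T => LinearMap.range φ) φ) ⟨_, rfl⟩))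
  have hone : (1 : T) ∈ 𝔗 := htop ▸ Submodule.mem_top
  obtain ⟨cf, hc, hcsum⟩ := Submodule.mem_iSup_iff_exists_finsupp _ _ |>.1 hone
  choose gk hgk using fun φ => hc φ
  let pr : ({φ // φ ∈ cf.support} → T) →ₗ[T] J :=
    ∑ φ : {φ // φ ∈ cf.support}, (LinearMap.proj φ).smulRight (gk φ.1)
  refine Module.Projective.of_split (LinearMap.pi fun φ : {φ // φ ∈ cf.support} => φ.1) pr ?_
  apply LinearMap.ext
  intro j
  refine Subtype.ext ?_
  simp only [pr, LinearMap.comp_apply, LinearMap.sum_apply, LinearMap.smulRight_apply, LinearMap.proj_apply,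
    LinearMap.pi_apply, LinearMap.id_apply, Submodule.coe_sum, Submodule.coe_smul, smul_eq_mul]
  have hkey : ∀ φ : J →ₗ[T] T, φ j * (gk φ : T) = (j : T) * φ (gk φ) := by
    intro φ
    have h1 := φ.map_smul (gk φ : T) j
    have h2 := φ.map_smul (j : T) (gk φ)
    rw [smul_eq_mul] at h1 h2
    rw [mul_comm, ← h1, ← h2]
    exact congrArg φ (Subtype.ext (mul_comm _ _))
  simp only [hkey, hgk, ← Finset.mul_sum]
  rw [Finset.sum_coe_sort cf.support (fun φ => cf φ), show ∑ φ ∈ cf.support, cf φ = 1 from hcsum, mul_one]

/-- A regular local ring is factorial. -/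
theorem ufd_of_isRegularLocalRing (R : Type u) [CommRing R] [IsRegularLocalRing R] [IsDomain R] :
    UniqueFactorizationMonoid R := by
  obtain ⟨n, hn⟩ := SerreReg.exists_dim R
  induction n using Nat.strong_induction_on generalizing R with
  | _ n ih =>
    by_cases hm : maximalIdeal R ≤ maximalIdeal R ^ 2
    · have hbot : maximalIdeal R = ⊥ :=
        Submodule.eq_bot_of_le_smul_of_le_jacobson_bot (maximalIdeal R) _ (IsNoetherian.noetherian _)
          (by rw [smul_eq_mul, ← pow_two]; exact hm) (jacobson_eq_maximalIdeal ⊥ bot_ne_top).ge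
      haveI : IsPrincipalIdealRing R := (isField_iff_maximalIdeal_eq.2 hbot).isPrincipalIdealRing
      infer_instance
    obtain ⟨x, hxm, hx2⟩ := SetLike.not_le_iff_exists.1 hm
    obtain ⟨hregq, -⟩ := SerreReg.isRegularLocalRing_quot hxm hx2
    have hx0 : x ≠ 0 := fun h => hx2 (h ▸ zero_mem _)
    have hxprime : Prime x := by
      haveI : IsDomain (R ⧸ Ideal.span {x}) := RegLoc.isDomain _
      exact (Ideal.span_singleton_prime hx0).1 ((Ideal.Quotient.isDomain_iff_prime _).1 this)
    refine UniqueFactorizationMonoid.of_forall_isPrincipal_of_height_eq_one fun P hP hPh => ?_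
    by_cases hxP : x ∈ P
    · exact ⟨x, P.eq_span_singleton_of_height_eq_one hPh hxP hxprime⟩
    refine Ideal.isPrincipal_of_isPrincipal_localizationAway_of_prime hxprime hxP ?_
    let S := Submonoid.powers x
    let T := Localization.Away x
    haveI : IsDomain T := IsLocalization.isDomain_localization (powers_le_nonZeroDivisors_of_noZeroDivisors hx0)
    haveI : IsNoetherianRing T := IsLocalization.isNoetherianRing S T inferInstance
    let J := P.map (algebraMap R T)
    let ι : LocalizedModule S P →ₗ[T] T :=
      (IsLocalizedModule.map S (LocalizedModule.mkLinearMap S P) (Algebra.linearMap R T)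
        P.subtype).extendScalarsOfIsLocalization S T
    have hι : Function.Injective ι :=
      IsLocalizedModule.map_injective S _ _ _ (Submodule.injective_subtype _)
    have hrange : LinearMap.range ι = J := by
      refine le_antisymm ?_ ?_
      · rintro _ ⟨m, rfl⟩
        obtain ⟨⟨q, s⟩, rfl⟩ := IsLocalizedModule.mk'_surjective S (LocalizedModule.mkLinearMap S P) m
        show IsLocalizedModule.map S _ _ P.subtype (IsLocalizedModule.mk' _ q s) ∈ J
        rw [IsLocalizedModule.map_mk']
        refine (Ideal.unit_mul_mem_iff_mem J (IsLocalization.map_units T s)).1 ?_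
        have h2 := IsLocalizedModule.mk'_cancel' (Algebra.linearMap R T) (P.subtype q) s
        rw [Submonoid.smul_def, Algebra.smul_def] at h2
        rw [h2]
        exact Ideal.mem_map_of_mem _ q.2
      · refine Ideal.map_le_iff_le_comap.2 fun q hq => ?_
        exact ⟨LocalizedModule.mkLinearMap S P ⟨q, hq⟩,
          IsLocalizedModule.map_apply S (LocalizedModule.mkLinearMap S P) (Algebra.linearMap R T) _ _⟩
    have hproj : Module.Projective T (LocalizedModule S P) := by
      haveI : Module.Projective T J := by
        refine projective_of_locally_principal J fun Q hQ => ?_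
        let q := Q.comap (algebraMap R T)
        haveI : q.IsPrime := Ideal.IsPrime.comap _
        have hxq : x ∉ q := fun h => hQ.ne_top
          (Ideal.eq_top_of_isUnit_mem _ h (IsLocalization.Away.algebraMap_isUnit x))
        have hP0 : P ≠ ⊥ := P.ne_bot_of_height_eq_one hPh
        suffices key : ∃ g ∈ P, g ≠ 0 ∧ ∀ r ∈ P, ∃ s ∉ q, g ∣ s * r by
          obtain ⟨g, hgP, hg0, hg⟩ := key
          refine ⟨algebraMap R T g, Ideal.mem_map_of_mem _ hgP, fun h => hg0
            (IsLocalization.injective T (powers_le_nonZeroDivisors_of_noZeroDivisors hx0)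
              (h.trans (map_zero _).symm)), fun j hj => ?_⟩
          obtain ⟨⟨⟨r, hr⟩, u⟩, hru⟩ := (IsLocalization.mem_map_algebraMap_iff S T).1 hj
          obtain ⟨s, hsq, hsg⟩ := hg r hr
          refine ⟨algebraMap R T s, hsq, ?_⟩
          have h2 : algebraMap R T g ∣ algebraMap R T s * j * algebraMap R T u := by
            rw [mul_assoc, hru, ← map_mul]; exact map_dvd _ hsg
          exact (IsUnit.dvd_mul_right (IsLocalization.map_units T u)).1 h2
        by_cases hPq : P ≤ q
        · have hqm : q ≠ maximalIdeal R := fun h => hxq (h ▸ hxm)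
          let L := Localization.AtPrime q
          haveI : IsRegularLocalRing L := SerreReg.isRegularLocalRing_localization R q
          haveI : IsDomain L := RegLoc.isDomain L
          obtain ⟨m, hm'⟩ := SerreReg.exists_dim L
          have hlt : m < n := by
            have h1 : ringKrullDim L = q.height := IsLocalization.AtPrime.ringKrullDim_eq_height q L
            have h2 : q.height < (maximalIdeal R).height :=
              Ideal.height_strict_mono_of_isPrime (lt_of_le_of_ne (le_maximalIdeal Ideal.IsPrime.ne_top') hqm)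
            rw [hm'] at h1
            have h3 : ((maximalIdeal R).height : WithBot ℕ∞) = n :=
              (IsLocalRing.maximalIdeal_height_eq_ringKrullDim).trans hn
            have h4 : ((q.height : ℕ∞) : WithBot ℕ∞) < ((maximalIdeal R).height : WithBot ℕ∞) :=
              WithBot.coe_lt_coe.2 h2
            rw [← h1, h3] at h4
            exact_mod_cast h4
          haveI := ih m hlt L hm'
          have hdisj : Disjoint (q.primeCompl : Set R) P :=
            Set.disjoint_left.2 fun r hr hrP => hr (hPq hrP)
          haveI : (P.map (algebraMap R L)).IsPrime :=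
            IsLocalization.isPrime_of_isPrime_disjoint q.primeCompl L P hP hdisj
          have hh : (P.map (algebraMap R L)).height = 1 := by
            rw [IsLocalization.height_map_of_disjoint q.primeCompl P hdisj, hPh]
          obtain ⟨γ, hγ⟩ := UniqueFactorizationMonoid.isPrincipal_of_height_eq_one hh
          rw [Ideal.submodule_span_eq] at hγ
          obtain ⟨⟨⟨g, hgP⟩, u⟩, hgu⟩ := (IsLocalization.mem_map_algebraMap_iff q.primeCompl L).1
            (hγ.ge (Ideal.mem_span_singleton_self γ))
          have hinj := IsLocalization.injective L q.primeCompl_le_nonZeroDivisors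
          have hg0 : g ≠ 0 := by
            intro h
            apply hP0
            have : γ = 0 := by
              dsimp only at hgu
              rw [h, map_zero] at hgu
              exact (IsLocalization.map_units L u).mul_left_eq_zero.1 hgu
            rw [this, Ideal.span_singleton_eq_bot.2 rfl] at hγ
            exact (Ideal.map_eq_bot_iff_of_injective hinj).1 hγ
          refine ⟨g, hgP, hg0, fun r hr => ?_⟩
          obtain ⟨w, hw⟩ := Ideal.mem_span_singleton'.1 (hγ.le (Ideal.mem_map_of_mem (algebraMap R L) hr))
          obtain ⟨⟨w0, v⟩, hwv⟩ := IsLocalization.surj q.primeCompl w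
          refine ⟨v * u, fun h => (‹q.IsPrime›.mem_or_mem h).elim v.2 u.2, w0, hinj ?_⟩
          rw [map_mul, map_mul, map_mul, ← hgu, ← hwv, ← hw]
          ring
        · obtain ⟨g, hgP, hgq⟩ := SetLike.not_le_iff_exists.1 hPq
          exact ⟨g, hgP, fun h => hgq (h ▸ zero_mem _), fun r hr => ⟨g, hgq, dvd_mul_right g r⟩⟩
      exact Module.Projective.of_equiv ((LinearEquiv.ofInjective ι hι).trans (LinearEquiv.ofEq _ _ hrange)).symm
    have hsf := sf_localized S n P (SerreReg.pdLE_of_isRegularLocalRing R n hn P) hproj
    have := isPrincipal_range_of_sf ι hι hsf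
    rwa [hrange] at this

end Groth.Agent.UFDLib
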