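import Mathlib

/-!
# Height one primes of a polynomial ring
-/

set_option autoImplicit false

universe u

open Polynomial

namespace Groth.Agent.UFDLib

variable {A : Type u} [CommRing A] [IsDomain A] [IsNoetherianRing A]

omit [IsNoetherianRing A] in
theorem eq_map_comap_of_height_one (P : Ideal A[X]) [P.IsPrime] (hP : P.height = 1) :
    P.comap (C : A →+* A[X]) = ⊥ ∨
      ((P.comap (C : A →+* A[X])).height = 1 ∧ P = (P.comap (C : A →+* A[X])).map C) := by
  by_cases h0 : P.comap (C : A →+* A[X]) = ⊥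
  · exact Or.inl h0
  have hmap : ∀ q : Ideal A, q.IsPrime → (q.map (C : A →+* A[X])).IsPrime := fun q hq =>
    (Ideal.isPrime_map_C_iff_isPrime q).2 hq
  have hne : ∀ q : Ideal A, q ≠ ⊥ → q.map (C : A →+* A[X]) ≠ ⊥ := fun q hq h =>
    hq (Ideal.map_eq_bot_iff_of_injective C_injective |>.1 h)
  have hcm : ∀ q : Ideal A, (q.map (C : A →+* A[X])).comap C = q := fun q => by
    ext a
    rw [Ideal.mem_comap, Ideal.mem_map_C_iff]
    refine ⟨fun h => by simpa using h 0, fun h n => ?_⟩
    rcases n with _ | n <;> simp [h, coeff_C]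
  have key : ∀ q : Ideal A, q.IsPrime → q ≠ ⊥ → q.map (C : A →+* A[X]) ≤ P → q.map C = P := by
    intro q hq hq0 hle
    by_contra hne'
    have := hmap q hq
    have : P.FiniteHeight := by simp [P.finiteHeight_iff, hP]
    have hlt := Ideal.height_strict_mono_of_isPrime_of_isPrime (lt_of_le_of_ne hle hne')
    rw [hP, Order.lt_one_iff, Ideal.height_eq_zero_iff_eq_bot] at hlt
    exact hne q hq0 hlt
  refine Or.inr ⟨le_antisymm ?_ ?_, (key _ inferInstance h0 Ideal.map_comap_le).symm⟩
  · rw [← Nat.cast_one, Ideal.height_le_iff]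
    intro q hq hlt
    by_contra hq0
    have hq0 : q ≠ ⊥ := fun h => hq0 (by rw [h, Ideal.height_bot]; exact zero_lt_one)
    have := key q hq hq0 ((Ideal.map_mono hlt.le).trans Ideal.map_comap_le)
    exact hlt.ne (by rw [← this, hcm])
  · rw [Order.one_le_iff_ne_zero]
    exact fun h => h0 (Ideal.height_eq_zero_iff_eq_bot.1 h)

theorem exists_generator_at (hR1 : ∀ (p : Ideal A) [p.IsPrime], p.height = 1 →
    IsDiscreteValuationRing (Localization.AtPrime p)) (P : Ideal A[X]) [P.IsPrime] (hP : P.height = 1) :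
    ∃ π ∈ P, ∀ g ∈ P, ∃ s ∉ P, π ∣ s * g := by
  rcases eq_map_comap_of_height_one P hP with h0 | ⟨hp1, hPe⟩
  · have hex : ∃ n, ∃ f ∈ P, f ≠ 0 ∧ f.natDegree = n := by
      obtain ⟨f, hf, hf0⟩ := (Submodule.ne_bot_iff P).1 (P.ne_bot_of_height_eq_one hP)
      exact ⟨_, f, hf, hf0, rfl⟩
    classical
    obtain ⟨f, hf, hf0, hfn⟩ := Nat.find_spec hex
    have hmin : ∀ g ∈ P, g ≠ 0 → f.natDegree ≤ g.natDegree := fun g hg hg0 =>
      hfn ▸ Nat.find_min' hex ⟨g, hg, hg0, rfl⟩
    have hC : ∀ a : A, a ≠ 0 → C a ∉ P := fun a ha h => ha (by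
      have h : a ∈ P.comap C := h
      rwa [h0, Ideal.mem_bot] at h)
    refine ⟨f, hf, fun g => ?_⟩
    induction hn : g.natDegree using Nat.strong_induction_on generalizing g with
    | _ n ih =>
      intro hg
      rcases eq_or_ne g 0 with rfl | hg0
      · exact ⟨1, fun h => (Ideal.IsPrime.ne_top ‹_›) ((Ideal.eq_top_iff_one P).2 h), by simp⟩
      have hle := hmin g hg hg0
      let g' := C f.leadingCoeff * g - C g.leadingCoeff * X ^ (g.natDegree - f.natDegree) * f
      have hg' : g' ∈ P := sub_mem (P.mul_mem_left _ hg) (P.mul_mem_left _ hf)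
      have hdvd : ∀ s : A[X], f ∣ s * g' → f ∣ (s * C f.leadingCoeff) * g := by
        intro s hs
        have : (s * C f.leadingCoeff) * g =
            s * g' + s * (C g.leadingCoeff * X ^ (g.natDegree - f.natDegree)) * f := by
          simp only [g']; ring
        rw [this]; exact dvd_add hs (dvd_mul_left _ _)
      rcases eq_or_ne g' 0 with h' | h'
      · exact ⟨1 * C f.leadingCoeff, by
          rw [one_mul]; exact hC _ (leadingCoeff_ne_zero.2 hf0), hdvd 1 (by simp [h'])⟩
      have hdeg : g'.natDegree < n := by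
        have h1 : (C g.leadingCoeff * X ^ (g.natDegree - f.natDegree) * f).natDegree ≤ g.natDegree :=
          natDegree_mul_le.trans (by
            have h3 := natDegree_C_mul_X_pow_le g.leadingCoeff (g.natDegree - f.natDegree)
            omega)
        have hcoeff : g'.coeff g.natDegree = 0 := by
          rw [coeff_sub, coeff_C_mul, mul_assoc, coeff_C_mul, coeff_X_pow_mul']
          rw [if_pos (Nat.sub_le _ _), Nat.sub_sub_self hle]
          simp only [leadingCoeff]; ring
        have h2 : g'.natDegree ≤ g.natDegree :=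
          (natDegree_sub_le _ _).trans (max_le (natDegree_C_mul_le _ _) h1)
        refine hn ▸ lt_of_le_of_ne h2 fun he => h' (leadingCoeff_eq_zero.1 ?_)
        rw [leadingCoeff, he, hcoeff]
      obtain ⟨s, hs, hsd⟩ := ih _ hdeg g' rfl hg'
      refine ⟨s * C f.leadingCoeff, fun h => ?_, hdvd s hsd⟩
      exact (Ideal.IsPrime.mem_or_mem ‹_› h).elim hs (hC _ (leadingCoeff_ne_zero.2 hf0))
  · let p := P.comap (C : A →+* A[X])
    have := hR1 p hp1
    obtain ⟨ϖ, hϖ⟩ := (IsPrincipalIdealRing.principal
      (IsLocalRing.maximalIdeal (Localization.AtPrime p))).principal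
    obtain ⟨⟨π, t⟩, hπ⟩ := IsLocalization.surj p.primeCompl ϖ
    have hspan : (Ideal.span {π}).map (algebraMap A (Localization.AtPrime p)) =
        IsLocalRing.maximalIdeal (Localization.AtPrime p) := by
      rw [Ideal.map_span, Set.image_singleton, ← hπ, hϖ]
      exact Ideal.span_singleton_mul_right_unit (IsLocalization.map_units _ t) ϖ
    have hπp : π ∈ p := by
      have : algebraMap A (Localization.AtPrime p) π ∈ IsLocalRing.maximalIdeal _ :=
        hspan ▸ Ideal.mem_map_of_mem _ (Ideal.mem_span_singleton_self π)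
      exact (IsLocalization.AtPrime.to_map_mem_maximal_iff _ p π).1 this
    refine ⟨C π, hπp, fun g hg => ?_⟩
    rw [hPe] at hg
    induction hg using Submodule.span_induction with
    | zero => exact ⟨1, fun h => (Ideal.IsPrime.ne_top ‹_›) ((Ideal.eq_top_iff_one P).2 h), by simp⟩
    | add x y _ _ hx hy =>
      obtain ⟨s, hs, hsx⟩ := hx
      obtain ⟨s', hs', hsy⟩ := hy
      exact ⟨s * s', fun h => (Ideal.IsPrime.mem_or_mem ‹_› h).elim hs hs', by
        rw [mul_add]
        exact dvd_add (by rw [mul_right_comm]; exact dvd_mul_of_dvd_left hsx _)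
          (by rw [mul_assoc]; exact dvd_mul_of_dvd_right hsy _)⟩
    | smul c x _ hx =>
      obtain ⟨s, hs, hsx⟩ := hx
      exact ⟨s, hs, by rw [smul_eq_mul, mul_left_comm]; exact dvd_mul_of_dvd_right hsx _⟩
    | mem x hx =>
      obtain ⟨a, ha, rfl⟩ := hx
      have h1 : algebraMap A (Localization.AtPrime p) a ∈
          (Ideal.span {π}).map (algebraMap A (Localization.AtPrime p)) :=
        hspan ▸ (IsLocalization.AtPrime.to_map_mem_maximal_iff _ p a).2 ha
      obtain ⟨s, hs, hsa⟩ := (IsLocalization.algebraMap_mem_map_algebraMap_iff p.primeCompl _ _ _).1 h1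
      refine ⟨C s, fun h => hs h, ?_⟩
      rw [← C_mul]
      exact map_dvd C (Ideal.mem_span_singleton.1 hsa)

theorem isDVR_of_height_one (hR1 : ∀ (p : Ideal A) [p.IsPrime], p.height = 1 →
    IsDiscreteValuationRing (Localization.AtPrime p)) (P : Ideal A[X]) [P.IsPrime] (hP : P.height = 1) :
    IsDiscreteValuationRing (Localization.AtPrime P) := by
  obtain ⟨π, hπ, hgen⟩ := exists_generator_at hR1 P hP
  have hprinc : (IsLocalRing.maximalIdeal (Localization.AtPrime P)).IsPrincipal := by
    refine ⟨algebraMap A[X] _ π, ?_⟩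
    rw [← Localization.AtPrime.map_eq_maximalIdeal]
    refine le_antisymm (Ideal.map_le_iff_le_comap.2 fun g hg => ?_) ?_
    · obtain ⟨s, hs, hd⟩ := hgen g hg
      rw [Ideal.mem_comap, Ideal.submodule_span_eq, Ideal.mem_span_singleton]
      have h := map_dvd (algebraMap A[X] (Localization.AtPrime P)) hd
      rw [map_mul] at h
      exact (IsUnit.dvd_mul_left (IsLocalization.map_units _ (⟨s, hs⟩ : P.primeCompl))).1 h
    · rw [Submodule.span_singleton_le_iff_mem]
      exact Ideal.mem_map_of_mem _ hπ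
  have hnf : ¬ IsField (Localization.AtPrime P) := fun h => by
    have h1 := IsLocalization.AtPrime.ringKrullDim_eq_height P (Localization.AtPrime P)
    rw [ringKrullDim_eq_zero_of_isField h, hP] at h1
    exact absurd h1 (by decide)
  exact ((IsDiscreteValuationRing.TFAE (Localization.AtPrime P) hnf).out 0 4).2 hprinc

end Groth.Agent.UFDLib
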