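import Groth.Agent.SerreReg.Regular
import Mathlib

/-!
# Stably free modules; projective modules with finite free resolutions
-/

set_option autoImplicit false

universe u

namespace Groth.Agent.UFDLib

/-- Stably free. -/
def SF (R : Type u) [CommRing R] (M : Type u) [AddCommGroup M] [Module R M] : Prop :=
  ∃ a b : ℕ, Nonempty ((M × (Fin a → R)) ≃ₗ[R] (Fin b → R))

/-- A stably free module which embeds into the domain `R` has principal image. -/
theorem isPrincipal_range_of_sf {R : Type u} [CommRing R] [IsDomain R] {M : Type u} [AddCommGroup M]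
    [Module R M] (ι : M →ₗ[R] R) (hι : Function.Injective ι) (h : SF R M) :
    (LinearMap.range ι).IsPrincipal := by
  classical
  obtain ⟨a, b, ⟨e⟩⟩ := h
  by_cases hM : ∀ m : M, m = 0
  · refine ⟨0, ?_⟩
    have : LinearMap.range ι = ⊥ := by
      rw [LinearMap.range_eq_bot]
      ext m
      simp [hM m]
    rw [this, Submodule.span_zero_singleton]
  push Not at hM
  obtain ⟨m0, hm0⟩ := hM
  have hb : b = a + 1 := by
    refine le_antisymm ?_ ?_
    · let g : (Fin b → R) →ₗ[R] (Fin (a + 1) → R) :=
        (Fin.consLinearEquiv R (fun _ : Fin (a + 1) => R)).toLinearMap.comp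
          ((ι.prodMap LinearMap.id).comp e.symm.toLinearMap)
      refine le_of_fin_injective R g ?_
      exact (Fin.consLinearEquiv R (fun _ : Fin (a + 1) => R)).injective.comp
        ((hι.prodMap Function.injective_id).comp e.symm.injective)
    · let g : (Fin (a + 1) → R) →ₗ[R] (Fin b → R) :=
        e.toLinearMap.comp (((LinearMap.toSpanSingleton R M m0).prodMap LinearMap.id).comp
          (Fin.consLinearEquiv R (fun _ : Fin (a + 1) => R)).symm.toLinearMap)
      have h1 : Function.Injective (LinearMap.toSpanSingleton R M m0) := ?_
      · refine le_of_fin_injective R g ?_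
        exact e.injective.comp ((h1.prodMap Function.injective_id).comp
          (Fin.consLinearEquiv R (fun _ : Fin (a + 1) => R)).symm.injective)
      intro x y hxy
      have := congrArg ι hxy
      simp only [LinearMap.toSpanSingleton_apply, map_smul, smul_eq_mul] at this
      exact mul_right_cancel₀ (fun h0 => hm0 (hι (h0.trans (map_zero ι).symm))) this
  subst hb
  let N : Matrix (Fin (a + 1)) (Fin (a + 1)) R := fun r l =>
    Fin.cases (ι (e.symm (Pi.single l 1)).1) (fun r' => (e.symm (Pi.single l 1)).2 r') r
  have hN : N.det ∈ LinearMap.range ι := by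
    rw [Matrix.det_succ_row_zero]
    refine Submodule.sum_mem _ fun l _ => ?_
    rw [mul_right_comm, ← smul_eq_mul]
    refine Submodule.smul_mem _ _ ?_
    exact LinearMap.mem_range_self ι (e.symm (Pi.single l 1)).1
  refine ⟨N.det, le_antisymm ?_ ((Submodule.span_singleton_le_iff_mem _ _).2 hN)⟩
  rintro _ ⟨m, rfl⟩
  let Mt : Matrix (Fin (a + 1)) (Fin (a + 1)) R := fun l c =>
    Fin.cases (e (m, 0) l) (fun c' => e (0, Pi.single c' 1) l) c
  have hNM : N * Mt = Matrix.diagonal (fun r => Fin.cases (ι m) (fun _ => 1) r) := by
    ext r c
    have key : ∀ v : Fin (a + 1) → R, ∑ l, N r l * v l =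
        Fin.cases (ι (e.symm v).1) (fun r' => (e.symm v).2 r') r := by
      intro v
      have hv : e.symm v = ∑ l, v l • e.symm (Pi.single l 1) := by
        conv_lhs => rw [pi_eq_sum_univ' v]
        simp [map_sum]
      refine Fin.cases ?_ (fun r' => ?_) r
      · simp only [N, Fin.cases_zero]
        rw [hv, Prod.fst_sum, map_sum]
        exact Finset.sum_congr rfl fun l _ => by rw [Prod.smul_fst, map_smul, smul_eq_mul, mul_comm]
      · simp only [N, Fin.cases_succ]
        rw [hv, Prod.snd_sum, Finset.sum_apply]
        exact Finset.sum_congr rfl fun l _ => by rw [Prod.smul_snd, Pi.smul_apply, smul_eq_mul, mul_comm]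
    rw [Matrix.mul_apply, key]
    refine Fin.cases ?_ (fun c' => ?_) c
    · simp only [Mt, Fin.cases_zero]
      rw [LinearEquiv.symm_apply_apply]
      refine Fin.cases ?_ (fun r' => ?_) r
      · simp
      · simp [Fin.succ_ne_zero]
    · simp only [Mt, Fin.cases_succ]
      rw [LinearEquiv.symm_apply_apply]
      refine Fin.cases ?_ (fun r' => ?_) r
      · simp [(Fin.succ_ne_zero c').symm]
      · simp [Matrix.diagonal_apply, Pi.single_apply, eq_comm]
  have hdet := congrArg Matrix.det hNM
  rw [Matrix.det_mul, Matrix.det_diagonal, Fin.prod_univ_succ] at hdet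
  simp only [Fin.cases_zero, Fin.cases_succ, Finset.prod_const_one, mul_one] at hdet
  rw [← hdet, mul_comm, ← smul_eq_mul]
  exact Submodule.smul_mem _ _ (Submodule.mem_span_singleton_self _)

/-- A module with finite free resolution whose localisation is projective is stably free there. -/
theorem sf_localized {R : Type u} [CommRing R] [IsLocalRing R] [IsNoetherianRing R] (S : Submonoid R) :
    ∀ (d : ℕ) (M : Type u) [AddCommGroup M] [Module R M] [Module.Finite R M], SerreReg.PdLE R M d →
      Module.Projective (Localization S) (LocalizedModule S M) →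
      SF (Localization S) (LocalizedModule S M) := by
  intro d
  induction d with
  | zero =>
    intro M _ _ _ hd _
    haveI : Module.Projective R M := (SerreReg.pdLE_zero_iff M).1 hd
    haveI : Module.Free R M := Module.free_of_flat_of_isLocalRing
    let B := (Module.finBasis R M).ofIsLocalizedModule (Localization S) S (LocalizedModule.mkLinearMap S M)
    exact ⟨0, _, ⟨LinearEquiv.prodUnique.trans B.equivFun⟩⟩
  | succ d ih =>
    intro M _ _ _ hd hproj
    obtain ⟨r, f, hf⟩ := Module.Finite.exists_fin' R M
    have hK := (SerreReg.pdLE_succ_iff f hf d).1 hd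
    let i := LocalizedModule.map S (LinearMap.ker f).subtype
    let g := LocalizedModule.map S f
    have hg : Function.Surjective g := LocalizedModule.map_surjective S f hf
    have hi : Function.Injective i := LocalizedModule.map_injective S _ (Submodule.injective_subtype _)
    have hex : Function.Exact i g := LocalizedModule.map_exact S _ _ (LinearMap.exact_subtype_ker_map f)
    haveI := hproj
    obtain ⟨l, hl⟩ := Module.projective_lifting_property g LinearMap.id hg
    obtain ⟨e, he, -⟩ := @Function.Exact.splitSurjectiveEquiv (Localization S)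
      (LocalizedModule S (LinearMap.ker f)) (LocalizedModule S (Fin r → R)) (LocalizedModule S M)
      _ _ _ _ _ _ _ i g hex hi ⟨l, hl⟩
    let B := (Pi.basisFun R (Fin r)).ofIsLocalizedModule (Localization S) S
      (LocalizedModule.mkLinearMap S (Fin r → R))
    haveI : Module.Free (Localization S) (LocalizedModule S (Fin r → R)) := .of_basis B
    haveI : Module.Projective (Localization S) (LocalizedModule S (LinearMap.ker f)) := by
      refine Module.Projective.of_split i ((LinearMap.fst _ _ _).comp e.toLinearMap) ?_
      apply LinearMap.ext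
      intro k
      rw [LinearMap.comp_apply, LinearMap.comp_apply, he, LinearMap.comp_apply]
      simp
    obtain ⟨a, b, ⟨eK⟩⟩ := ih (LinearMap.ker f) hK inferInstance
    refine ⟨b, r + a, ⟨?_⟩⟩
    exact (LinearEquiv.prodCongr (LinearEquiv.refl _ _) eK.symm).trans
      ((LinearEquiv.prodAssoc _ _ _ _).symm.trans
        ((LinearEquiv.prodCongr ((LinearEquiv.prodComm _ _ _).trans (e.symm.trans B.equivFun))
          (LinearEquiv.refl _ _)).trans
            ((LinearEquiv.sumArrowLequivProdArrow (Fin r) (Fin a) (Localization S) (Localization S)).symm.trans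
              (LinearEquiv.funCongrLeft _ _ finSumFinEquiv.symm))))

end Groth.Agent.UFDLib
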